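import Groth.Agent.KSix54.Rel.SingleChart
import Groth.Agent.H9Misc.DRingRelPC
import Groth.Agent.KFlatLib.Scheme.RHomLocal

/-!
# Relative pseudo-coherence on sections
-/

set_option linter.style.haveILetI false
set_option backward.isDefEq.respectTransparency false

universe u

open CategoryTheory CategoryTheory.Limits AlgebraicGeometry Opposite

attribute [local instance] HasDerivedCategory.standard

namespace Groth.Agent.FlatMor3.RelPC

open Groth.Agent.KFlatLib Groth.Agent.KSix54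

variable {X Y : Scheme.{u}}

/-- Direct image along `Spec g` of the module associated to a complex is restriction of scalars. -/
theorem nonempty_pushD_tildeD {A B : CommRingCat.{u}} (g : A ⟶ B) [IsClosedImmersion (Spec.map g)]
    (M : Dual.D (B : Type u)) :
    Nonempty ((pushD (Spec.map g)).obj ((DCoh.tildeD B).obj M) ≅
      (DCoh.tildeD A).obj ((DRing.restrictD g.hom).obj M)) := by
  let M₀ := DerivedCategory.Q.objPreimage M
  let tB := (tilde.functor B).mapHomologicalComplex (ComplexShape.up ℤ)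
  let r := (ModuleCat.restrictScalars.{u} g.hom).mapHomologicalComplex (ComplexShape.up ℤ)
  let e₃ : ((Scheme.Modules.pushforward (Spec.map g)).mapHomologicalComplex (ComplexShape.up ℤ)).obj
      (tB.obj M₀) ≅ ((tilde.functor A).mapHomologicalComplex (ComplexShape.up ℤ)).obj (r.obj M₀) :=
    HomologicalComplex.Hom.isoOfComponents (fun n => (pushTildeIso g).app (M₀.X n))
      (fun i j _ => ((pushTildeIso g).hom.naturality (M₀.d i j)).symm)
  exact ⟨(pushD (Spec.map g) ).mapIso ((DCoh.tildeD B).mapIso (DerivedCategory.Q.objObjPreimageIso M).symm ≪≫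
      ((tilde.functor B).mapDerivedCategoryFactors).app M₀) ≪≫
    (pushQ (Spec.map g)).app _ ≪≫ DerivedCategory.Q.mapIso e₃ ≪≫
    (((tilde.functor A).mapDerivedCategoryFactors).app (r.obj M₀)).symm ≪≫
    (DCoh.tildeD A).mapIso (((ModuleCat.restrictScalars.{u} g.hom).mapDerivedCategoryFactors.app M₀).symm ≪≫
      (DRing.restrictD g.hom).mapIso (DerivedCategory.Q.objObjPreimageIso M))⟩

/-- The same on complexes. -/
theorem nonempty_pushD_tildeD' {A B : CommRingCat.{u}} (g : A ⟶ B)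
    (M₀ : CochainComplex (ModuleCat.{u} B) ℤ) :
    Nonempty (DerivedCategory.Q.obj (((Scheme.Modules.pushforward (Spec.map g)).mapHomologicalComplex
        (ComplexShape.up ℤ)).obj (((tilde.functor B).mapHomologicalComplex (ComplexShape.up ℤ)).obj M₀)) ≅
      (DCoh.tildeD A).obj ((DRing.restrictD g.hom).obj (DerivedCategory.Q.obj M₀))) := by
  let r := (ModuleCat.restrictScalars.{u} g.hom).mapHomologicalComplex (ComplexShape.up ℤ)
  let e₃ : ((Scheme.Modules.pushforward (Spec.map g)).mapHomologicalComplex (ComplexShape.up ℤ)).obj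
      (((tilde.functor B).mapHomologicalComplex (ComplexShape.up ℤ)).obj M₀) ≅
      ((tilde.functor A).mapHomologicalComplex (ComplexShape.up ℤ)).obj (r.obj M₀) :=
    HomologicalComplex.Hom.isoOfComponents (fun n => (pushTildeIso g).app (M₀.X n))
      (fun i j _ => ((pushTildeIso g).hom.naturality (M₀.d i j)).symm)
  exact ⟨DerivedCategory.Q.mapIso e₃ ≪≫
    (((tilde.functor A).mapDerivedCategoryFactors).app (r.obj M₀)).symm ≪≫
    (DCoh.tildeD A).mapIso ((ModuleCat.restrictScalars.{u} g.hom).mapDerivedCategoryFactors.app M₀).symm⟩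

/-- The test on one chart, for a complex of sections given up to isomorphism. -/
theorem immPC_iff_restrictD' (m : ℤ) (E : DCoh.D X) {U : X.Opens} (hU : IsAffineOpen U) {P : CommRingCat.{u}}
    (ρ : P ⟶ Γ(X, U)) (hρ : Function.Surjective ρ) (M : Dual.D Γ(X, U))
    (eM : (DCoh.tildeD Γ(X, U)).obj M ≅ (pushD hU.isoSpec.hom).obj ((rho U.ι).obj E)) :
    ImmPC m E hU ρ hρ ↔ DRing.IsPseudoCoherent (P : Type u) m ((DRing.restrictD ρ.hom).obj M) := by
  haveI := isClosedImmersion_imm hU ρ hρ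
  haveI := IsClosedImmersion.spec_of_surjective ρ hρ
  obtain ⟨e₁⟩ := nonempty_pushD_tildeD ρ M
  have hfac : imm U ρ = hU.isoSpec.hom ≫ Spec.map ρ := by rw [imm, hU.isoSpec_hom]
  let e : (pushD (imm U ρ)).obj ((rho U.ι).obj E) ≅
      (DCoh.tildeD P).obj ((DRing.restrictD ρ.hom).obj M) :=
    pushDCongr hfac _ ≪≫ pushDComp hU.isoSpec.hom (Spec.map ρ) _ ≪≫
      (pushD (Spec.map ρ)).mapIso eM.symm ≪≫ e₁
  rw [← pseudoCoherent_tildeD_iff]
  exact ⟨LocPC.of_iso e, LocPC.of_iso e.symm⟩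

variable {f : X ⟶ Y} {m : ℤ}

/-- The test on one chart, on the complex of sections. -/
theorem immPC_iff_restrictD (m : ℤ) (E : DCoh.D X) {U : X.Opens} (hU : IsAffineOpen U) {P : CommRingCat.{u}}
    (ρ : P ⟶ Γ(X, U)) (hρ : Function.Surjective ρ) (G : CochainComplex X.Modules ℤ)
    (eG : DCoh.toD X G ≅ E) (M : Dual.D Γ(X, U))
    (eM : (DCoh.tildeD Γ(X, U)).obj M ≅
      DCoh.toD _ ((DerSch.pushCx hU.isoSpec.hom).obj ((DCoh.restrictCx U).obj G))) :
    ImmPC m E hU ρ hρ ↔ DRing.IsPseudoCoherent (P : Type u) m ((DRing.restrictD ρ.hom).obj M) := by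
  haveI := isClosedImmersion_imm hU ρ hρ
  haveI := IsClosedImmersion.spec_of_surjective ρ hρ
  obtain ⟨e₁⟩ := nonempty_pushD_tildeD ρ M
  have hfac : imm U ρ = hU.isoSpec.hom ≫ Spec.map ρ := by rw [imm, hU.isoSpec_hom]
  let e : (pushD (imm U ρ)).obj ((rho U.ι).obj E) ≅
      (DCoh.tildeD P).obj ((DRing.restrictD ρ.hom).obj M) :=
    pushDCongr hfac _ ≪≫ pushDComp hU.isoSpec.hom (Spec.map ρ) _ ≪≫
      (pushD (Spec.map ρ)).mapIso ((pushD hU.isoSpec.hom).mapIso ((rho U.ι).mapIso eG.symm ≪≫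
        (rhoQ U.ι).app G) ≪≫ (pushQ hU.isoSpec.hom).app _ ≪≫ eM.symm) ≪≫ e₁
  rw [← pseudoCoherent_tildeD_iff]
  exact ⟨LocPC.of_iso e, LocPC.of_iso e.symm⟩

/-- A complex of sections exists when the cohomology is quasi-coherent. -/
theorem exists_sections (E : DCoh.D X) (hE : DCoh.IsQCohD E) {U : X.Opens} (hU : IsAffineOpen U)
    (G : CochainComplex X.Modules ℤ) (eG : DCoh.toD X G ≅ E) :
    ∃ M : Dual.D Γ(X, U), Nonempty ((DCoh.tildeD Γ(X, U)).obj M ≅
      DCoh.toD _ ((DerSch.pushCx hU.isoSpec.hom).obj ((DCoh.restrictCx U).obj G))) := by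
  have hcomp : hU.isoSpec.hom ≫ hU.fromSpec = U.ι := by rw [hU.isoSpec_hom, hU.toSpecΓ_fromSpec]
  let e : (rho hU.fromSpec).obj E ≅
      DCoh.toD _ ((DerSch.pushCx hU.isoSpec.hom).obj ((DCoh.restrictCx U).obj G)) :=
    ((pushD hU.isoSpec.hom).mapIso (rhoComp hU.isoSpec.hom hU.fromSpec U.ι hcomp E).symm ≪≫
      pushRhoIso hU.isoSpec _).symm ≪≫
      (pushD hU.isoSpec.hom).mapIso ((rho U.ι).mapIso eG.symm ≪≫ (rhoQ U.ι).app G) ≪≫
      (pushQ hU.isoSpec.hom).app _
  obtain ⟨M, ⟨eM⟩⟩ := exists_tildeD_iso (isQCohD_rho hU.fromSpec hE)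
  exact ⟨M, ⟨eM ≪≫ e⟩⟩

end Groth.Agent.FlatMor3.RelPC
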