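import Groth.Agent.FlatMor3.RelPC.AffineTest
import Groth.Agent.KFlatLib.Scheme.FlatDescent
import Groth.Agent.KFlatLib.Scheme.LpullComp
import Groth.Agent.KFlatLib.Scheme.TildePull
import Groth.Agent.H9Misc.DRingLTensor

/-!
# Sections of flat derived pullbacks
-/

set_option linter.style.haveILetI false
set_option backward.isDefEq.respectTransparency false
set_option backward.isDefEq.respectTransparency.types false

universe u

open CategoryTheory CategoryTheory.Limits AlgebraicGeometry Opposite

attribute [local instance] HasDerivedCategory.standard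

namespace Groth.Agent.FlatMor3.RelPC

open Groth.Agent.KFlatLib Groth.Agent.KSix54

variable {X Y : Scheme.{u}}

/-- Pullback of complexes along a flat morphism preserves quasi-isomorphisms. -/
theorem isIso_Q_map_pullCx (f : X ⟶ Y) [Flat f] {K L : CochainComplex Y.Modules ℤ} (s : K ⟶ L)
    [QuasiIso s] : IsIso (DerivedCategory.Q.map ((pullCx f).map s)) := by
  haveI := preservesHomology_pullback f
  haveI : QuasiIso ((pullCx f).map s) := by
    dsimp only [pullCx]
    infer_instance
  exact inferInstanceAs (IsIso (DerivedCategory.Q.map ((pullCx f).map s)))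

/-- Derived pullback along a flat morphism is termwise pullback. -/
theorem nonempty_lpull_flat (f : X ⟶ Y) [Flat f] [DCoh.HasLpull f] (G : CochainComplex Y.Modules ℤ) :
    Nonempty ((DCoh.Lpull f).obj (DerivedCategory.Q.obj G) ≅ DerivedCategory.Q.obj ((pullCx f).obj G)) := by
  haveI : QuasiIso ((flatCover Y).ψ.app G) := (flatCover Y).quasiIso_ψ G
  haveI := isIso_Q_map_pullCx f ((flatCover Y).ψ.app G)
  exact ⟨(lpullResIso f).app G ≪≫ asIso (DerivedCategory.Q.map ((pullCx f).map ((flatCover Y).ψ.app G)))⟩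

/-- Flat pullback on derived categories, restricted to affine charts. -/
theorem exists_sections_pull (g : X ⟶ Y) [Flat g] [DCoh.HasLpull g] (E : DCoh.D Y) {U : Y.Opens}
    (hU : IsAffineOpen U) {U' : X.Opens} (hU' : IsAffineOpen U') (e : U' ≤ g ⁻¹ᵁ U)
    (M₀ : CochainComplex (ModuleCat.{u} Γ(Y, U)) ℤ)
    (eM : (DCoh.tildeD Γ(Y, U)).obj (DerivedCategory.Q.obj M₀) ≅ (rho hU.fromSpec).obj E) :
    Nonempty ((DCoh.tildeD Γ(X, U')).obj (DerivedCategory.Q.obj
        ((H9Misc.DRingLTensor.extC' (g.appLE U U' e).hom).obj M₀)) ≅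
      (rho hU'.fromSpec).obj ((DCoh.Lpull g).obj E)) := by
  let φ := g.appLE U U' e
  let F := Scheme.Modules.pullback (Spec.map φ)
  haveI : Flat (Spec.map φ) :=
    (HasRingHomProperty.Spec_iff (P := @Flat)).2 (HasRingHomProperty.appLE @Flat g inferInstance ⟨U, hU⟩ ⟨U', hU'⟩ e)
  haveI := preservesHomology_pullback (Spec.map φ)
  haveI : PreservesFiniteLimits F := Functor.preservesFiniteLimits_of_preservesHomology F
  haveI : PreservesFiniteColimits F := by
    haveI : F.IsLeftAdjoint := (Scheme.Modules.pullbackPushforwardAdjunction (Spec.map φ)).isLeftAdjoint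
    infer_instance
  let G := DerivedCategory.Q.objPreimage E
  obtain ⟨p⟩ := nonempty_lpull_flat g G
  let T := ((tilde.functor Γ(Y, U)).mapHomologicalComplex (ComplexShape.up ℤ)).obj M₀
  let c : Scheme.Modules.pullback g ⋙ Scheme.Modules.restrictFunctor hU'.fromSpec ≅
      Scheme.Modules.restrictFunctor hU.fromSpec ⋙ F :=
    Functor.isoWhiskerLeft _ (Scheme.Modules.restrictFunctorIsoPullback hU'.fromSpec) ≪≫
      Scheme.Modules.pullbackComp hU'.fromSpec g ≪≫
      Scheme.Modules.pullbackCongr (IsAffineOpen.SpecMap_appLE_fromSpec g hU hU' e).symm ≪≫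
      (Scheme.Modules.pullbackComp (Spec.map φ) hU.fromSpec).symm ≪≫
      Functor.isoWhiskerRight (Scheme.Modules.restrictFunctorIsoPullback hU.fromSpec).symm F
  let c' : ((rCx hU'.fromSpec).obj ((pullCx g).obj G)) ≅
      (F.mapHomologicalComplex (ComplexShape.up ℤ)).obj ((rCx hU.fromSpec).obj G) :=
    HomologicalComplex.Hom.isoOfComponents (fun n => c.app (G.X n))
      (fun i j _ => (c.hom.naturality (G.d i j)).symm)
  let t : (F.mapHomologicalComplex (ComplexShape.up ℤ)).obj T ≅
      ((tilde.functor Γ(X, U')).mapHomologicalComplex (ComplexShape.up ℤ)).obj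
        ((H9Misc.DRingLTensor.extC' φ.hom).obj M₀) :=
    HomologicalComplex.Hom.isoOfComponents (fun n => (QCoh.tildePullbackIso φ).app (M₀.X n))
      (fun i j _ => ((QCoh.tildePullbackIso φ).hom.naturality (M₀.d i j)).symm)
  let eR : DerivedCategory.Q.obj ((rCx hU.fromSpec).obj G) ≅ DerivedCategory.Q.obj T :=
    ((rhoQ hU.fromSpec).app G).symm ≪≫ (rho hU.fromSpec).mapIso (repIso E) ≪≫ eM.symm ≪≫
      (tilde.functor Γ(Y, U)).mapDerivedCategoryFactors.app M₀
  exact ⟨((rho hU'.fromSpec).mapIso ((DCoh.Lpull g).mapIso (repIso E).symm ≪≫ p) ≪≫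
    (rhoQ hU'.fromSpec).app _ ≪≫ DerivedCategory.Q.mapIso c' ≪≫
    (F.mapDerivedCategoryFactors.app _).symm ≪≫ F.mapDerivedCategory.mapIso eR ≪≫
    F.mapDerivedCategoryFactors.app T ≪≫ DerivedCategory.Q.mapIso t ≪≫
    ((tilde.functor Γ(X, U')).mapDerivedCategoryFactors.app _).symm).symm⟩

end Groth.Agent.FlatMor3.RelPC
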