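import Groth.Agent.FlatMor3.RelPC.RingBC
import Groth.Agent.FlatMor3.RelPC.PullSections
import Groth.Agent.KSix54.Rel.Basic
import Mathlib.AlgebraicGeometry.Morphisms.Flat

/-!
# Flat base change of the pseudo-coherence test on a pair of affine opens
-/

set_option linter.style.haveILetI false
set_option backward.isDefEq.respectTransparency false

universe u

open CategoryTheory CategoryTheory.Limits AlgebraicGeometry Opposite

attribute [local instance] HasDerivedCategory.standard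

namespace Groth.Agent.FlatMor3.RelPC

open Groth.Agent.KFlatLib Groth.Agent.KSix54

variable {X S X' S' : Scheme.{u}}

/-- The test on one chart, read on a complex of sections over the spectrum. -/
theorem immPC_iff_sections (m : ℤ) (E : DCoh.D X) {U : X.Opens} (hU : IsAffineOpen U) {P : CommRingCat.{u}}
    (ρ : P ⟶ Γ(X, U)) (hρ : Function.Surjective ρ) (M : Dual.D Γ(X, U))
    (eM : (DCoh.tildeD Γ(X, U)).obj M ≅ (rho hU.fromSpec).obj E) :
    ImmPC m E hU ρ hρ ↔ DRing.IsPseudoCoherent (P : Type u) m ((DRing.restrictD ρ.hom).obj M) := by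
  haveI := IsClosedImmersion.spec_of_surjective ρ hρ
  obtain ⟨e₁⟩ := nonempty_pushD_tildeD ρ M
  let e : (pushD (Spec.map ρ)).obj ((rho hU.fromSpec).obj E) ≅
      (DCoh.tildeD P).obj ((DRing.restrictD ρ.hom).obj M) :=
    (pushD (Spec.map ρ)).mapIso eM.symm ≪≫ e₁
  rw [immPC_iff_spec m E hU ρ hρ, ← pseudoCoherent_tildeD_iff]
  exact ⟨LocPC.of_iso e, LocPC.of_iso e.symm⟩

/-- A complex of sections, as a complex. -/
theorem exists_sectionsCx (E : DCoh.D X) (hE : DCoh.IsQCohD E) {U : X.Opens} (hU : IsAffineOpen U) :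
    ∃ M₀ : CochainComplex (ModuleCat.{u} Γ(X, U)) ℤ,
      Nonempty ((DCoh.tildeD Γ(X, U)).obj (DerivedCategory.Q.obj M₀) ≅ (rho hU.fromSpec).obj E) := by
  obtain ⟨M, ⟨eM⟩⟩ := exists_tildeD_iso (isQCohD_rho hU.fromSpec hE)
  exact ⟨_, ⟨(DCoh.tildeD Γ(X, U)).mapIso (DerivedCategory.Q.objObjPreimageIso M) ≪≫ eM⟩⟩

/-- Flat base change of the test, and its descent when the base opens cover. -/
theorem pcOn_baseChange {f : X ⟶ S} [LocallyOfFiniteType f] {h : S' ⟶ S} [Flat h] {g : X' ⟶ X}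
    {f' : X' ⟶ S'} (hc : IsPullback g f' f h) [DCoh.HasLpull g] {m : ℤ} {E : DCoh.D X}
    (hE : DCoh.IsQCohD E) {U : X.Opens} {V : S.Opens} {V' : S'.Opens} (hU : IsAffineOpen U)
    (hV : IsAffineOpen V) (hV' : IsAffineOpen V') (hUV : U ≤ f ⁻¹ᵁ V) (hV'V : V' ≤ h ⁻¹ᵁ V) :
    (PCOn f m E U V → PCOn f' m ((DCoh.Lpull g).obj E) (g ⁻¹ᵁ U ⊓ f' ⁻¹ᵁ V') V') ∧
      ((∀ s ∈ V, ∃ t ∈ V', h.base t = s) →
        PCOn f' m ((DCoh.Lpull g).obj E) (g ⁻¹ᵁ U ⊓ f' ⁻¹ᵁ V') V' → PCOn f m E U V) := by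
  haveI : Flat g := MorphismProperty.of_isPullback hc.flip inferInstance
  let U' : X'.Opens := g ⁻¹ᵁ U ⊓ f' ⁻¹ᵁ V'
  have hU' : IsAffineOpen U' := by
    haveI : IsAffine _ := hU
    haveI : IsAffine _ := hV
    haveI : IsAffine _ := hV'
    exact .of_isIso (Scheme.Hom.isPullback_resLE hc hV'V hUV rfl).isoPullback.hom
  have e₁ : U' ≤ g ⁻¹ᵁ U := inf_le_left
  have e₂ : U' ≤ f' ⁻¹ᵁ V' := inf_le_right
  letI : Algebra Γ(S, V) Γ(X, U) := (f.appLE V U hUV).hom.toAlgebra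
  letI : Algebra Γ(S, V) Γ(S', V') := (h.appLE V V' hV'V).hom.toAlgebra
  letI : Algebra Γ(X, U) Γ(X', U') := (g.appLE U U' e₁).hom.toAlgebra
  letI : Algebra Γ(S', V') Γ(X', U') := (f'.appLE V' U' e₂).hom.toAlgebra
  letI : Algebra Γ(S, V) Γ(X', U') := ((g.appLE U U' e₁).hom.comp (f.appLE V U hUV).hom).toAlgebra
  haveI hpo := (isIso_pushoutSection_iff hc hV'V hUV rfl).1
    (isIso_pushoutSection_of_isAffineOpen hc hV'V hUV rfl hV hV' hU)
  haveI : IsScalarTower Γ(S, V) Γ(X, U) Γ(X', U') := IsScalarTower.of_algebraMap_eq' rfl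
  haveI : IsScalarTower Γ(S, V) Γ(S', V') Γ(X', U') :=
    IsScalarTower.of_algebraMap_eq' (congrArg CommRingCat.Hom.hom hpo.w)
  haveI : Algebra.IsPushout Γ(S, V) Γ(S', V') Γ(X, U) Γ(X', U') :=
    (CommRingCat.isPushout_iff_isPushout.1 hpo).symm
  haveI : Module.Flat Γ(S, V) Γ(S', V') :=
    HasRingHomProperty.appLE @Flat h inferInstance ⟨V, hV⟩ ⟨V', hV'⟩ hV'V
  obtain ⟨n, φ, hφ⟩ := exists_isPres (f := f) hU hV hUV
  let α : MvPolynomial (Fin n) Γ(S, V) →ₐ[Γ(S, V)] Γ(X, U) := { φ.hom with commutes' := hφ.2.2 }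
  obtain ⟨β, hβ, hiff⟩ := exists_presentation_baseChange (R' := Γ(S', V')) (B' := Γ(X', U')) α hφ.surjective
  have hψ : IsPres f' U' V'
      (CommRingCat.ofHom β.toRingHom : CommRingCat.of (MvPolynomial (Fin n) Γ(S', V')) ⟶ _) :=
    ⟨e₂, hβ, fun r => β.commutes r⟩
  obtain ⟨M₀, ⟨eM⟩⟩ := exists_sectionsCx E hE hU
  obtain ⟨eM'⟩ := exists_sections_pull g E hU hU' e₁ M₀ eM
  constructor
  · intro hP
    exact ⟨hU', n, _, hψ, (immPC_iff_sections m _ hU' _ hψ.surjective _ eM').2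
      ((hiff M₀ m).1 ((immPC_iff_sections m E hU φ hφ.surjective _ eM).1 (hP.any hU φ hφ)))⟩
  · intro hsurj hP
    refine ⟨hU, n, φ, hφ, (immPC_iff_sections m E hU φ hφ.surjective _ eM).2 ((hiff M₀ m).2 ?_
      ((immPC_iff_sections m _ hU' _ hψ.surjective _ eM').1 (hP.any hU' _ hψ)))⟩
    have hff : (h.appLE V V' hV'V).hom.FaithfullyFlat := by
      refine (flat_and_surjective_SpecMap_iff _).1 ⟨(HasRingHomProperty.Spec_iff (P := @Flat)).2
        (HasRingHomProperty.appLE @Flat h inferInstance ⟨V, hV⟩ ⟨V', hV'⟩ hV'V), ⟨fun p => ?_⟩⟩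
      have hp : hV.fromSpec.base p ∈ (V : Set S) := by
        rw [← hV.range_fromSpec]
        exact Set.mem_range_self p
      obtain ⟨t, ht, hts⟩ := hsurj _ hp
      obtain ⟨q, rfl⟩ : t ∈ Set.range hV'.fromSpec.base := by
        rw [hV'.range_fromSpec]
        exact ht
      refine ⟨q, hV.fromSpec.isOpenEmbedding.injective ?_⟩
      rw [← hts, ← Scheme.Hom.comp_apply, IsAffineOpen.SpecMap_appLE_fromSpec h hV hV' hV'V]
      rfl
    exact hff

end Groth.Agent.FlatMor3.RelPC
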