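import Groth.Agent.KSix54.PCI.Core
import Groth.Agent.KFlatLib.Scheme.CohD
import Groth.Agent.KFlatLib.Scheme.TildePush
import Groth.Agent.PCMor.Ring
import Groth.Agent.S1004
import Groth.Prelude.Def_DerSch2

/-!
# Charts for relative pseudo-coherence

Pseudo-coherence after direct image along closed immersions with pseudo-coherent direct image of the
structure sheaf, and the translation of `DerSch.ChartPC`.
-/

set_option autoImplicit false
set_option linter.style.haveILetI false
set_option backward.isDefEq.respectTransparency false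
set_option backward.isDefEq.respectTransparency.types false

universe u

open CategoryTheory CategoryTheory.Limits AlgebraicGeometry

attribute [local instance] HasDerivedCategory.standard

namespace Groth.Agent.FlatMor3.RelPC

open Groth.Agent.KFlatLib Groth.Agent.KSix54

variable {X Y Z : Scheme.{u}}

/-- The composite of closed immersions on derived categories. -/
noncomputable def pushComp (i : X ⟶ Y) [IsClosedImmersion i] (s : Y ⟶ Z) [IsClosedImmersion s]
    (k : X ⟶ Z) [IsClosedImmersion k] (h : i ≫ s = k) (K : DCoh.D X) :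
    (pushD s).obj ((pushD i).obj K) ≅ (pushD k).obj K :=
  (pushD s).mapIso ((pushD i).mapIso (repIso K).symm ≪≫ (pushQ i).app _) ≪≫ (pushQ s).app _ ≪≫
    DerivedCategory.Q.mapIso ((NatIso.mapHomologicalComplex
      (Scheme.Modules.pushforwardComp i s ≪≫ Scheme.Modules.pushforwardCongr h)
      (ComplexShape.up ℤ)).app _) ≪≫
    ((pushQ k).app _).symm ≪≫ (pushD k).mapIso (repIso K)

/-- Along a closed immersion with pseudo-coherent `i_* O`, pseudo-coherence of the direct image is
pseudo-coherence. -/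
theorem locPC_push_iff (s : Y ⟶ Z) [IsClosedImmersion s] [CompactSpace Y] [CompactSpace Z]
    (hs : ∀ t : ℤ, PushPC s t) (m : ℤ) (K : DCoh.D Y) :
    LocPC m ((pushD s).obj K) ↔ LocPC m K := by
  constructor
  · intro h
    obtain ⟨b, hb⟩ := exists_bound_of_locPC h
    exact locPC_of_pushD (s := m - b) s (hs _)
      (fun j hj => isZero_of_push s ((hb j hj).of_iso ((pushHD s j).app K).symm)) (by omega) h
  · intro h
    obtain ⟨b, hb⟩ := exists_bound_of_locPC h
    exact (locPC_pushD (s := m - b) (b := b) s (hs _) h hb).mono (by omega)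

/-- Transfer of pseudo-coherence along a composite. -/
theorem locPC_comp_iff (i : X ⟶ Y) [IsClosedImmersion i] (s : Y ⟶ Z) [IsClosedImmersion s]
    [CompactSpace Y] [CompactSpace Z] (hs : ∀ t : ℤ, PushPC s t)
    (k : X ⟶ Z) [IsClosedImmersion k] (h : i ≫ s = k) (m : ℤ) (K : DCoh.D X) :
    LocPC m ((pushD k).obj K) ↔ LocPC m ((pushD i).obj K) := by
  rw [← locPC_push_iff s hs m ((pushD i).obj K)]
  exact ⟨LocPC.of_iso (pushComp i s k h K).symm, LocPC.of_iso (pushComp i s k h K)⟩

/-- A surjection of rings with pseudo-coherent target gives a closed immersion with pseudo-coherent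
direct image of the structure sheaf. -/
theorem pushPC_specMap {A B : CommRingCat.{u}} (g : A ⟶ B) [IsClosedImmersion (Spec.map g)]
    (h : H9Misc.DRingRelPC.PCHom g.hom) (t : ℤ) : PushPC (Spec.map g) t := by
  let M : ModuleCat.{u} A := (ModuleCat.restrictScalars g.hom).obj (ModuleCat.of B B)
  have h1 : DRing.IsPseudoCoherent A t ((DerivedCategory.singleFunctor (ModuleCat.{u} A) 0).obj M) :=
    (H9Misc.DRingPC.pc'_iff _).1 h t
  have h2 : DCoh.IsPseudoCoherentD t ((DCoh.tildeD A).obj
      ((DerivedCategory.singleFunctor (ModuleCat.{u} A) 0).obj M)) :=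
    (Groth.Agent.S1004.result A _ t).2 h1
  rw [isPseudoCoherentD_iff] at h2
  refine LocPC.of_iso (((tilde.functor A).mapDerivedCategorySingleFunctor 0).app M ≪≫
    (DerivedCategory.singleFunctor (Spec A).Modules 0).mapIso ?_) h2
  exact ((pushTildeIso g).app (ModuleCat.of B B)).symm ≪≫
    (Scheme.Modules.pushforward (Spec.map g)).mapIso tildeSelf

section chart

variable {S : Scheme.{u}} {U : X.Opens} {R : Type u} [CommRing R] {n : ℕ}

theorem chartImm_comp (φ : MvPolynomial (Fin n) R →+* Γ(X, U)) {k : ℕ}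
    (ρ : MvPolynomial (Fin k) R →+* MvPolynomial (Fin n) R) :
    DerSch.chartImm U φ ≫ Spec.map (CommRingCat.ofHom ρ) = DerSch.chartImm U (φ.comp ρ) := by
  rw [DerSch.chartImm, DerSch.chartImm, Category.assoc, ← Spec.map_comp]
  rfl

theorem isClosedImmersion_specMap {A B : CommRingCat.{u}} (g : A ⟶ B) (hg : Function.Surjective g) :
    IsClosedImmersion (Spec.map g) := IsClosedImmersion.spec_of_surjective g hg

theorem isIso_toSpecΓ (hU : IsAffineOpen U) : IsIso U.toSpecΓ := by
  haveI : IsAffine (U : Scheme.{u}) := hU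
  rw [Scheme.Opens.toSpecΓ]
  infer_instance

/-- A chart on an affine open is a closed immersion. -/
theorem isClosedImmersion_chartImm (hU : IsAffineOpen U) (φ : MvPolynomial (Fin n) R →+* Γ(X, U))
    (hφ : Function.Surjective φ) : IsClosedImmersion (DerSch.chartImm U φ) := by
  haveI := isIso_toSpecΓ hU
  haveI := isClosedImmersion_specMap (CommRingCat.ofHom φ) hφ
  rw [DerSch.chartImm]
  infer_instance

/-- The chart test in terms of derived functors. -/
theorem chartPC_iff {V : S.Opens} (m : ℤ) (K : DCoh.D X) (φ : MvPolynomial (Fin n) Γ(S, V) →+* Γ(X, U))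
    [IsClosedImmersion (DerSch.chartImm U φ)] :
    DerSch.ChartPC m K U V φ ↔ LocPC m ((pushD (DerSch.chartImm U φ)).obj ((rho U.ι).obj K)) := by
  have e : ∀ G : CochainComplex X.Modules ℤ, (DerivedCategory.Q.obj G ≅ K) →
      ((pushD (DerSch.chartImm U φ)).obj ((rho U.ι).obj K) ≅
        DCoh.toD _ ((DerSch.pushCx (DerSch.chartImm U φ)).obj ((DCoh.restrictCx U).obj G))) := fun G eG =>
    (pushD (DerSch.chartImm U φ)).mapIso ((rho U.ι).mapIso eG.symm ≪≫ (rhoQ U.ι).app G) ≪≫
      (pushQ (DerSch.chartImm U φ)).app _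
  constructor
  · intro h
    have := (isPseudoCoherentD_iff _ _).1 (h (DerivedCategory.Q.objPreimage K) ⟨repIso K⟩)
    exact this.of_iso (e _ (repIso K)).symm
  · rintro h G ⟨eG⟩
    exact (isPseudoCoherentD_iff _ _).2 (h.of_iso (e G eG))

/-- The test only depends on the closed immersion. -/
theorem locPC_chart_congr {P : Scheme.{u}} {a b : (U : Scheme.{u}) ⟶ P} [IsClosedImmersion a] [IsClosedImmersion b]
    (h : a = b) (m : ℤ) (K : DCoh.D (U : Scheme.{u})) :
    LocPC m ((pushD a).obj K) ↔ LocPC m ((pushD b).obj K) := by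
  subst h
  exact Iff.rfl

/-- Changing the presentation along a surjection with pseudo-coherent target. -/
theorem locPC_chartImm_comp (hU : IsAffineOpen U) (φ : MvPolynomial (Fin n) R →+* Γ(X, U))
    (hφ : Function.Surjective φ) {Q : Type u} [CommRing Q]
    (ρ : Q →+* MvPolynomial (Fin n) R) (hρ : Function.Surjective ρ)
    (hρ' : H9Misc.DRingRelPC.PCHom ρ) (m : ℤ) (K : DCoh.D (U : Scheme.{u})) :
    haveI := isClosedImmersion_chartImm hU φ hφ
    haveI := isClosedImmersion_specMap (CommRingCat.ofHom ρ) hρ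
    LocPC m ((pushD (DerSch.chartImm U φ ≫ Spec.map (CommRingCat.ofHom ρ))).obj K) ↔
      LocPC m ((pushD (DerSch.chartImm U φ)).obj K) :=
  haveI := isClosedImmersion_chartImm hU φ hφ
  haveI := isClosedImmersion_specMap (CommRingCat.ofHom ρ) hρ
  locPC_comp_iff _ _ (pushPC_specMap _ hρ') _ rfl m K

open MvPolynomial in
/-- Independence of the chart. -/
theorem chartPC_indep {V : S.Opens} (hU : IsAffineOpen U) (m : ℤ) (E : DCoh.D X)
    (φ : MvPolynomial (Fin n) Γ(S, V) →+* Γ(X, U)) (hφ : Function.Surjective φ)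
    (h : DerSch.ChartPC m E U V φ) {k : ℕ} (ψ : MvPolynomial (Fin k) Γ(S, V) →+* Γ(X, U))
    (hψ : Function.Surjective ψ) (hC : ψ.comp MvPolynomial.C = φ.comp MvPolynomial.C) :
    DerSch.ChartPC m E U V ψ := by
  haveI := isClosedImmersion_chartImm hU φ hφ
  haveI := isClosedImmersion_chartImm hU ψ hψ
  rw [chartPC_iff] at h ⊢
  let A := Γ(S, V)
  choose p hp' using fun j : Fin k => hφ (ψ (MvPolynomial.X j))
  choose q hq' using fun i : Fin n => hψ (φ (MvPolynomial.X i))
  let ρ : MvPolynomial (Fin k) (MvPolynomial (Fin n) A) →+* MvPolynomial (Fin n) A := eval₂Hom (RingHom.id _) p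
  let σ := (commAlgEquiv A (Fin k) (Fin n)).toRingEquiv.toRingHom
  let ρ' : MvPolynomial (Fin k) (MvPolynomial (Fin n) A) →+* MvPolynomial (Fin k) A :=
    (eval₂Hom (RingHom.id _) q).comp σ
  have hρ : H9Misc.DRingRelPC.PCHom ρ := H9Misc.DRingRelPC.pcHom_aeval k _ p
  have hρ' : H9Misc.DRingRelPC.PCHom ρ' :=
    (H9Misc.DRingRelPC.PCHom.of_bijective (commAlgEquiv A (Fin k) (Fin n)).bijective).comp
      (H9Misc.DRingRelPC.pcHom_aeval n _ q)
  have heq : ψ.comp ρ' = φ.comp ρ := by
    refine MvPolynomial.ringHom_ext (fun r => ?_) fun j => ?_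
    · show (ψ.comp (ρ'.comp MvPolynomial.C)) r = (φ.comp (ρ.comp MvPolynomial.C)) r
      refine RingHom.congr_fun (MvPolynomial.ringHom_ext (fun s => ?_) fun i => ?_) r
      · have hs := RingHom.congr_fun hC s
        simpa [ρ, ρ', σ, A] using hs
      · simp [ρ, ρ', σ, hq', A]
    · simp [ρ, ρ', σ, hp', A]
  have hρs : Function.Surjective ρ := fun x => ⟨MvPolynomial.C x, eval₂Hom_C _ _ _⟩
  have hρs' : Function.Surjective ρ' :=
    (show Function.Surjective (eval₂Hom (RingHom.id _) q : MvPolynomial (Fin n) (MvPolynomial (Fin k) A) →+*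
      MvPolynomial (Fin k) A) from fun x => ⟨MvPolynomial.C x, eval₂Hom_C _ _ _⟩).comp
      (commAlgEquiv A (Fin k) (Fin n)).surjective
  refine (locPC_chartImm_comp hU ψ hψ ρ' hρs' hρ' m _).1 ?_
  haveI := isClosedImmersion_specMap (CommRingCat.ofHom ρ) hρs
  haveI := isClosedImmersion_specMap (CommRingCat.ofHom ρ') hρs'
  refine (locPC_chart_congr ?_ m _).1 ((locPC_chartImm_comp hU φ hφ ρ hρs hρ m _).2 h)
  simp only [DerSch.chartImm, Category.assoc, ← Spec.map_comp]
  exact congrArg (fun r => U.toSpecΓ ≫ Spec.map (CommRingCat.ofHom r)) heq.symm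

end chart

end Groth.Agent.FlatMor3.RelPC
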