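import Groth.Agent.FlatMor3.RelPC.AffineTest
import Groth.Agent.KFlatLib.Scheme.RpushRestrict
import Groth.Agent.KFlatLib.Scheme.RpushQCoh
import Groth.Agent.KFlatLib.Scheme.ProjLocFree
import Groth.Agent.KFlatLib.Scheme.AffinePush
import Groth.Agent.H9Misc.DRingRelPC2
import Groth.Agent.KSix54.Rel.Basic

/-!
# Finite direct image and relative pseudo-coherence
-/

set_option linter.style.haveILetI false
set_option backward.isDefEq.respectTransparency false

universe u

open CategoryTheory CategoryTheory.Limits AlgebraicGeometry Opposite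

attribute [local instance] HasDerivedCategory.standard

namespace Groth.Agent.FlatMor3.RelPC

open Groth.Agent.KFlatLib Groth.Agent.KSix54

variable {X Y S : Scheme.{u}}

/-- `Rf_*` of a complex of quasi-coherent modules along an affine morphism. -/
theorem nonempty_rpush_of_qcoh (f : X ⟶ Y) [IsAffineHom f] [DCoh.HasRpush f] (F : CochainComplex X.Modules ℤ)
    (hq : ∀ n, Coh.IsQCoh (F.X n)) :
    Nonempty ((DCoh.Rpush f).obj (DerivedCategory.Q.obj F) ≅ DerivedCategory.Q.obj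
      (((Scheme.Modules.pushforward f).mapHomologicalComplex (ComplexShape.up ℤ)).obj F)) := by
  haveI := isIso_unit_of_isAffineHom f F hq
  let q := HomotopyCategory.quotient X.Modules (ComplexShape.up ℤ)
  let α := (DCoh.pushKh f).totalRightDerivedUnit DerivedCategory.Qh
    (HomotopyCategory.quasiIso X.Modules (ComplexShape.up ℤ))
  exact ⟨(DCoh.Rpush f).mapIso ((DerivedCategory.quotientCompQhIso X.Modules).app F).symm ≪≫
    (asIso (α.app (q.obj F))).symm ≪≫
    DerivedCategory.Qh.mapIso (((Scheme.Modules.pushforward f).mapHomotopyCategoryFactors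
      (ComplexShape.up ℤ)).app F) ≪≫ (DerivedCategory.quotientCompQhIso Y.Modules).app _⟩

/-- The sections of a finite (or affine) direct image over an affine open. -/
theorem exists_sections_push (π : X ⟶ Y) [IsAffineHom π] [DCoh.HasRpush π] (E : DCoh.D X)
    (hE : DCoh.IsQCohD E) {V : Y.Opens} (hV : IsAffineOpen V) :
    ∃ M : Dual.D Γ(X, π ⁻¹ᵁ V),
      Nonempty ((DCoh.tildeD Γ(X, π ⁻¹ᵁ V)).obj M ≅
        (pushD (hV.preimage π).isoSpec.hom).obj ((rho (π ⁻¹ᵁ V).ι).obj E)) ∧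
      Nonempty ((DCoh.tildeD Γ(Y, V)).obj ((DRing.restrictD (π.app V).hom).obj M) ≅
        (pushD hV.isoSpec.hom).obj ((rho V.ι).obj ((DCoh.Rpush π).obj E))) := by
  let U := π ⁻¹ᵁ V
  let hU : IsAffineOpen U := hV.preimage π
  let g := π.app V
  let π' : (U : Scheme.{u}) ⟶ V := π ∣_ V
  haveI : DCoh.HasRpush π' := hasRpush_scheme π'
  haveI : IsAffineHom π' := IsZariskiLocalAtTarget.restrict (P := @IsAffineHom) inferInstance V
  let eU := hU.isoSpec
  have hcomp : eU.hom ≫ hU.fromSpec = U.ι := by rw [hU.isoSpec_hom, hU.toSpecΓ_fromSpec]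
  have hsq : π' ≫ hV.isoSpec.hom = eU.hom ≫ Spec.map g := by
    rw [hV.isoSpec_hom, hU.isoSpec_hom]
    exact (Scheme.Opens.toSpecΓ_naturality π V).symm
  obtain ⟨M, ⟨eM⟩⟩ := exists_tildeD_iso (isQCohD_rho hU.fromSpec hE)
  let M₀ := DerivedCategory.Q.objPreimage M
  let T := ((tilde.functor Γ(X, U)).mapHomologicalComplex (ComplexShape.up ℤ)).obj M₀
  let G : CochainComplex (U : Scheme.{u}).Modules ℤ := (rCx eU.hom).obj T
  let eG : (rho U.ι).obj E ≅ DerivedCategory.Q.obj G :=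
    (rhoComp eU.hom hU.fromSpec U.ι hcomp E).symm ≪≫
      (rho eU.hom).mapIso (eM.symm ≪≫
        (DCoh.tildeD Γ(X, U)).mapIso (DerivedCategory.Q.objObjPreimageIso M).symm ≪≫
        (tilde.functor Γ(X, U)).mapDerivedCategoryFactors.app M₀) ≪≫
      (rhoQ eU.hom).app T
  have hq : ∀ n, Coh.IsQCoh (G.X n) := fun n =>
    QCoh.isQCoh_restrict eU.hom (QCoh.isQCoh_spec_iff.2 ⟨M₀.X n, ⟨Iso.refl _⟩⟩)
  refine ⟨M, ⟨eM ≪≫ ((pushD eU.hom).mapIso (rhoComp eU.hom hU.fromSpec U.ι hcomp E).symm ≪≫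
    pushRhoIso eU _).symm⟩, ?_⟩
  obtain ⟨r⟩ := nonempty_rpush_restrictD_iso π V
  obtain ⟨p⟩ := nonempty_rpush_of_qcoh π' G hq
  obtain ⟨t⟩ := nonempty_pushD_tildeD' g M₀
  refine ⟨?_ ≪≫ ((pushD hV.isoSpec.hom).mapIso (r.app E ≪≫ (DCoh.Rpush π').mapIso eG ≪≫ p) ≪≫
    (pushQ hV.isoSpec.hom).app _).symm⟩
  let F1 := Scheme.Modules.restrictFunctor eU.hom ⋙ Scheme.Modules.pushforward π' ⋙
    Scheme.Modules.pushforward hV.isoSpec.hom
  let c : F1 ≅ Scheme.Modules.pushforward (Spec.map g) :=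
    Functor.isoWhiskerLeft (Scheme.Modules.restrictFunctor eU.hom)
      (Scheme.Modules.pushforwardComp π' hV.isoSpec.hom ≪≫ Scheme.Modules.pushforwardCongr hsq ≪≫
        (Scheme.Modules.pushforwardComp eU.hom (Spec.map g)).symm) ≪≫
      (Functor.associator _ _ _).symm ≪≫ Functor.isoWhiskerRight (restrictPushIso eU) _ ≪≫
      Functor.leftUnitor _
  exact (DCoh.tildeD Γ(Y, V)).mapIso ((DRing.restrictD g.hom).mapIso
      (DerivedCategory.Q.objObjPreimageIso M).symm) ≪≫ t.symm ≪≫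
    DerivedCategory.Q.mapIso (HomologicalComplex.Hom.isoOfComponents (fun n => (c.app (T.X n)).symm)
      (fun i j _ => (c.inv.naturality (T.d i j)).symm))

end Groth.Agent.FlatMor3.RelPC
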