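import Groth.Agent.KSix54.Rel.Basic

/-! Relative pseudo-coherence glues over a standard cover of one affine open, with a given chart. -/

set_option linter.style.haveILetI false
set_option backward.isDefEq.respectTransparency false

universe u

open CategoryTheory CategoryTheory.Limits AlgebraicGeometry

attribute [local instance] HasDerivedCategory.standard

namespace Groth.Agent.FlatMor3.RelPC

open Groth.Agent.KFlatLib Groth.Agent.H9Misc.DRingRelPC Groth.Agent.KSix54

variable {X Y : Scheme.{u}} {f : X ⟶ Y} {m : ℤ} {K : DCoh.D X}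

theorem immPC_of_pcOn_cover {U : X.Opens} {V : Y.Opens} (hU : IsAffineOpen U) {n : ℕ}
    (φ : CommRingCat.of (MvPolynomial (Fin n) Γ(Y, V)) ⟶ Γ(X, U)) (hφ : IsPres f U V φ)
    {k : ℕ} (g : Fin k → Γ(X, U)) (hspan : Ideal.span (Set.range g) = ⊤)
    (h : ∀ j, PCOn f m K (X.basicOpen (g j)) V) :
    ImmPC m K hU φ hφ.surjective := by
  have hUV : U ≤ f ⁻¹ᵁ V := hφ.1
  refine immPC_of_cover m K hU φ hφ.surjective fun x hx => ?_
  obtain ⟨j, hxg⟩ : ∃ j, x ∈ X.basicOpen (g j) := by
    have := (hU.iSup_basicOpen_eq_self_iff (s := Set.range g)).2 hspan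
    rw [← this] at hx
    simpa using hx
  have hg := h j
  generalize g j = g at hg hxg
  obtain ⟨G, rfl⟩ := hφ.surjective g
  refine ⟨G, hxg, ?_⟩
  obtain ⟨e, -⟩ := surjective_flatten (R := Γ(Y, V)) n 1
  let θ : CommRingCat.of (MvPolynomial (Fin (1 + n)) Γ(Y, V)) ⟶
      CommRingCat.of (MvPolynomial (Fin 1) (MvPolynomial (Fin n) Γ(Y, V))) :=
    CommRingCat.ofHom e.toRingEquiv.toRingHom
  have hθ : Function.Surjective θ := e.surjective
  refine (immPC_comp_iff m K (hU.basicOpen _) θ hθ (PCHom.of_bijective e.bijective) _ _).1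
    (hg.any (hU.basicOpen _) _ ⟨(X.basicOpen_le _).trans hUV,
      ((awayρ_surjective hU φ hφ.surjective G).comp (awayθ_surjective _)).comp hθ, fun r => ?_⟩)
  have h1 : θ (MvPolynomial.C r) = MvPolynomial.C (MvPolynomial.C r) := e.commutes r
  have h2 : awayρ hU φ G (algebraMap _ _ (MvPolynomial.C r : MvPolynomial (Fin n) Γ(Y, V))) =
      X.presheaf.map (homOfLE (X.basicOpen_le (φ G))).op (φ (MvPolynomial.C r)) :=
    RingHom.congr_fun (congrArg CommRingCat.Hom.hom (awayρ_spec hU φ G)) _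
  have h3 : ∀ z, awayθ (P := CommRingCat.of (MvPolynomial (Fin n) Γ(Y, V))) G (MvPolynomial.C z) =
      algebraMap _ (Localization.Away G) z := fun z => by simp [awayθ]
  change awayρ hU φ G (awayθ (P := CommRingCat.of (MvPolynomial (Fin n) Γ(Y, V))) G (θ (MvPolynomial.C r))) = _
  rw [h1]
  refine ((congrArg (awayρ hU φ G) (h3 _)).trans h2).trans ?_
  rw [hφ.2.2, ← CommRingCat.comp_apply, Scheme.Hom.appLE_map]

end Groth.Agent.FlatMor3.RelPC
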