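import Groth.Agent.KSix54.Rel.Basic
import Groth.Agent.KFlatLib.Perfect.Retract

/-!
# Pseudo-coherence from cohomology sheaves

A bounded above object is `m`-pseudo-coherent if each `Hⁱ` in degree zero is `(m - i)`-pseudo-coherent;
the same for pseudo-coherence relative to a morphism.
-/

set_option linter.style.haveILetI false
set_option backward.isDefEq.respectTransparency false

universe u

open CategoryTheory CategoryTheory.Limits AlgebraicGeometry

attribute [local instance] HasDerivedCategory.standard

namespace Groth.Agent.FlatMor3.RelPC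

open Groth.Agent.KFlatLib Groth.Agent.KSix54

variable {X Y : Scheme.{u}}

/-- A single sheaf in degree `b` as a shift of one in degree `0`. -/
noncomputable def singleShiftInD (M : Y.Modules) (b : ℤ) :
    ((DerivedCategory.singleFunctor Y.Modules b).obj M)⟦b⟧ ≅ DCoh.inD Y M :=
  ((DerivedCategory.singleFunctors Y.Modules).shiftIso b 0 b (add_zero b)).app M

theorem locPC_single {m b : ℤ} {M : Y.Modules} (h : LocPC (m - b) (DCoh.inD Y M)) :
    LocPC m ((DerivedCategory.singleFunctor Y.Modules b).obj M) :=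
  LocPC.of_shift b (LocPC.of_iso (singleShiftInD M b).symm h)

theorem locPC_Q_of_homology (m : ℤ) : ∀ (k : ℕ) (b : ℤ), b + 1 ≤ m + k →
    ∀ K : CochainComplex Y.Modules ℤ, (∀ i, b < i → IsZero (K.homology i)) →
    (∀ i, m ≤ i → i ≤ b → LocPC (m - i) (DCoh.inD Y (K.homology i))) →
    LocPC m (DerivedCategory.Q.obj K) := by
  intro k
  induction k with
  | zero =>
    intro b hb K hz _
    exact locPC_of_isZero m _ fun i hi =>
      (hz i (by omega)).of_iso ((DerivedCategory.homologyFunctorFactors Y.Modules i).app K)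
  | succ k ih =>
    intro b hb K hz hK
    have h₁ : LocPC m (DerivedCategory.Q.obj (K.truncLE (b - 1))) := by
      refine ih (b - 1) (by omega) _ (fun i hi => CochainComplex.isZero_of_isLE _ (b - 1) i hi) ?_
      intro i hi hi'
      haveI := K.quasiIsoAt_ιTruncLE (b - 1) i hi'
      exact LocPC.of_iso ((DerivedCategory.singleFunctor Y.Modules 0).mapIso
        (isoOfQuasiIsoAt (K.ιTruncLE (b - 1)) i).symm) (hK i hi (by omega))
    let eπ : ∀ i, b ≤ i → (K.homology i ≅ (K.truncGE b).homology i) := fun i hi =>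
      haveI := K.quasiIsoAt_πTruncGE b i hi
      isoOfQuasiIsoAt (K.πTruncGE b) i
    have h₃ : LocPC m (DerivedCategory.Q.obj (K.truncGE b)) := by
      by_cases hbm : b < m
      · refine locPC_of_isZero m _ fun i hi => ?_
        exact ((hz i (by omega)).of_iso (eπ i (by omega)).symm).of_iso
          ((DerivedCategory.homologyFunctorFactors Y.Modules i).app _)
      haveI : (K.truncGE b).IsLE b := (CochainComplex.isLE_iff _ b).2 fun i hi =>
        (HomologicalComplex.exactAt_iff_isZero_homology _ i).2 ((hz i hi).of_iso (eπ i hi.le).symm)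
      obtain ⟨M, ⟨eM⟩⟩ := DerivedCategory.exists_iso_singleFunctor_obj_of_isGE_of_isLE
        (DerivedCategory.Q.obj (K.truncGE b)) b
      refine LocPC.of_iso eM.symm (locPC_single (LocPC.of_iso
        ((DerivedCategory.singleFunctor Y.Modules 0).mapIso ?_) (hK b (by omega) le_rfl)))
      exact eπ b le_rfl ≪≫ ((DerivedCategory.homologyFunctorFactors Y.Modules b).app _).symm ≪≫
        (DerivedCategory.homologyFunctor Y.Modules b).mapIso eM ≪≫
        (DerivedCategory.singleFunctorCompHomologyFunctorIso Y.Modules b).app M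
    have hS := K.shortComplexTruncLE_shortExact (b - 1)
    refine (locPC_two_of_three m _ (DerivedCategory.triangleOfSES_distinguished hS)).2.1 h₁ ?_
    exact LocPC.of_iso (asIso (DerivedCategory.Q.map
      (K.shortComplexTruncLEX₃ToTruncGE (b - 1) b (by omega)))).symm h₃

/-- Pseudo-coherence from cohomology. -/
theorem locPC_of_homology {m b : ℤ} (K : DCoh.D Y) (hb : ∀ i, b < i → IsZero (DCoh.HD K i))
    (h : ∀ i, m ≤ i → LocPC (m - i) (DCoh.inD Y (DCoh.HD K i))) : LocPC m K := by
  have e : ∀ i, (DerivedCategory.Q.objPreimage K).homology i ≅ DCoh.HD K i := fun i =>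
    ((DerivedCategory.homologyFunctorFactors Y.Modules i).app _).symm ≪≫
      (DerivedCategory.homologyFunctor Y.Modules i).mapIso (repIso K)
  refine LocPC.of_iso (repIso K) (locPC_Q_of_homology m (b + 1 - m).toNat b (by omega) _
    (fun i hi => (hb i hi).of_iso (e i)) fun i hi _ => ?_)
  exact LocPC.of_iso ((DerivedCategory.singleFunctor Y.Modules 0).mapIso (e i).symm) (h i hi)

/-- Relative pseudo-coherence from cohomology. -/
theorem isPseudoCoherentRel_of_homology {f : X ⟶ Y} [LocallyOfFiniteType f] {m b : ℤ} {K : DCoh.D X}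
    (hb : ∀ i, b < i → IsZero (DCoh.HD K i))
    (h : ∀ i, m ≤ i → DerSch.IsPseudoCoherentRel f (m - i) (DCoh.inD X (DCoh.HD K i))) :
    DerSch.IsPseudoCoherentRel f m K := by
  refine isPseudoCoherentRel_iff.2 ⟨inferInstance, fun U V hU hV hUV => ?_⟩
  obtain ⟨n, φ, hφ⟩ := exists_isPres (f := f) hU hV hUV
  haveI := isClosedImmersion_imm hU φ hφ.surjective
  refine ⟨hU, n, φ, hφ, ?_⟩
  have e : ∀ i, (Scheme.Modules.pushforward (imm U φ)).obj ((DCoh.HD K i).restrict U.ι) ≅
      DCoh.HD ((pushD (imm U φ)).obj ((rho U.ι).obj K)) i := fun i =>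
    ((pushHD (imm U φ) i).app _ ≪≫
      (Scheme.Modules.pushforward (imm U φ)).mapIso (hdRhoIso U.ι K i)).symm
  refine locPC_of_homology (b := b) _ (fun i hi => ?_) fun i hi => ?_
  · exact (Functor.map_isZero _ ((Scheme.Modules.restrictFunctor U.ι).map_isZero (hb i hi))).of_iso
      (e i).symm
  · have hQ := ((isPseudoCoherentRel_iff.1 (h i hi)).2 U V hU hV hUV).any hU φ hφ
    exact LocPC.of_iso ((pushD (imm U φ)).mapIso (rhoSingle U.ι _) ≪≫ pushSingle (imm U φ) _ ≪≫
      (DerivedCategory.singleFunctor _ 0).mapIso (e i)) hQ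

end Groth.Agent.FlatMor3.RelPC
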