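import Groth.Agent.KSix54.Rel.FlatFPRel
import Groth.Agent.RelFP.Scheme
import Groth.Agent.KSix54.Rel.Unit

/-!
# Relative pseudo-coherence of a module in degrees `≥ -1`
-/

set_option linter.style.haveILetI false
set_option backward.isDefEq.respectTransparency false

universe u

open CategoryTheory CategoryTheory.Limits AlgebraicGeometry Opposite

attribute [local instance] HasDerivedCategory.standard

namespace Groth.Agent.FlatMor3.RelPC

open Groth.Agent.KFlatLib Groth.Agent.KSix54 Groth.Agent.H9Misc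

variable {X Y : Scheme.{u}} {f : X ⟶ Y}

theorem hd_inD_isZero (M : X.Modules) (i : ℤ) (hi : 0 < i) : IsZero (DCoh.HD (DCoh.inD X M) i) :=
  KFlatLib.hd_single_isZero M i (by omega)

theorem isPseudoCoherentRel_of_pos [LocallyOfFiniteType f] (M : X.Modules) {m : ℤ} (hm : 0 < m) :
    DerSch.IsPseudoCoherentRel f m (DCoh.inD X M) := by
  refine isPseudoCoherentRel_iff.2 ⟨inferInstance, fun U V hU hV hUV => ?_⟩
  obtain ⟨n, φ, hφ⟩ := exists_isPres (f := f) hU hV hUV
  haveI := isClosedImmersion_imm hU φ hφ.surjective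
  exact ⟨hU, n, φ, hφ, locPC_of_isZero m _ fun i hi =>
    isZero_HD_push _ (isZero_HD_rho U.ι (hd_inD_isZero M i (by omega)))⟩

/-- A surjection of rings gives a closed immersion with `0`-pseudo-coherent `i_* O`. -/
theorem pushPC_imm_zero {U : X.Opens} (hU : IsAffineOpen U) {P : CommRingCat.{u}} (ρ : P ⟶ Γ(X, U))
    (hρ : Function.Surjective ρ) : PushPC (imm U ρ) 0 := by
  refine (immPC_unit_iff_pushPC hU ρ hρ).1 ((immPC_unit_iff hU ρ hρ).2 ?_)
  let N := (ModuleCat.restrictScalars ρ.hom).obj (ModuleCat.of Γ(X, U) Γ(X, U))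
  haveI : Module.Finite (P : Type u) N := by
    refine Module.Finite.of_surjective
      ({ toFun := fun p => ρ p
         map_add' := map_add ρ.hom
         map_smul' := fun p q => map_mul ρ.hom p q } : (P : Type u) →ₗ[(P : Type u)] N) hρ
  exact DRingPC.pc_zero_of_finite N

theorem rel_zero_iff [LocallyOfFiniteType f] (M : X.Modules) :
    DerSch.IsPseudoCoherentRel f 0 (DCoh.inD X M) ↔ LocPC 0 (DCoh.inD X M) := by
  constructor
  · intro h
    refine LocPC.of_local fun x => ?_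
    obtain ⟨V, hV, hxV, -⟩ :=
      exists_isAffineOpen_mem_and_subset (X := Y) (x := f.base x) (U := ⊤) trivial
    obtain ⟨U, hU', hxU, hUV⟩ :=
      exists_isAffineOpen_mem_and_subset (X := X) (x := x) (U := f ⁻¹ᵁ V) hxV
    obtain ⟨hU, n, φ, hφ, hP⟩ := (isPseudoCoherentRel_iff.1 h).2 U V hU' hV hUV
    haveI := isClosedImmersion_imm hU φ hφ.surjective
    exact ⟨_, U.ι, inferInstance, ⟨⟨x, hxU⟩, rfl⟩,
      locPC_of_pushD (imm U φ) (s := 0) (b := 0) (pushPC_imm_zero hU φ hφ.surjective)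
        (fun j hj => isZero_HD_rho U.ι (hd_inD_isZero M j hj)) (by omega) hP⟩
  · intro h
    refine isPseudoCoherentRel_iff.2 ⟨inferInstance, fun U V hU hV hUV => ?_⟩
    obtain ⟨n, φ, hφ⟩ := exists_isPres (f := f) hU hV hUV
    haveI := isClosedImmersion_imm hU φ hφ.surjective
    refine ⟨hU, n, φ, hφ, ?_⟩
    have h1 := locPC_pushD (imm U φ) (s := 0) (b := 0) (pushPC_imm_zero hU φ hφ.surjective)
      (LocPC.restrict h U.ι) (fun j hj => isZero_HD_rho U.ι (hd_inD_isZero M j hj))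
    exact LocPC.mono h1 (by omega)

theorem rel_zero_iff_isFT [LocallyOfFiniteType f] (M : X.Modules) :
    DerSch.IsPseudoCoherentRel f 0 (DCoh.inD X M) ↔ CohB1.IsFT M := by
  rw [rel_zero_iff]
  exact ⟨fun h => isFT_of_iso' (KFlatLib.hdSingleIso M) (isFT_top h (hd_inD_isZero M)),
    locPC_of_isFT M⟩

/-- Finite presentation of the sections over a polynomial ring, in two forms. -/
theorem fp_secMod_iff (M : X.Modules) {U : X.Opens} (hU : IsAffineOpen U) {P : CommRingCat.{u}}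
    (ρ : P ⟶ Γ(X, U)) :
    Module.FinitePresentation P ((ModuleCat.restrictScalars ρ.hom).obj (secMod M hU)) ↔
      RelFP.FPVia ρ.hom Γ(M, U) := by
  rw [RelFP.fpVia_equiv (q' := ρ.hom) (N' := secMod M hU) (QCoh.chartEquiv hU M).toAddEquiv
    fun x v => (QCoh.chartEquiv hU M).map_smul (ρ x) v]
  rfl

theorem rel_neg_one_iff [LocallyOfFiniteType f] (M : X.Modules) :
    DerSch.IsPseudoCoherentRel f (-1) (DCoh.inD X M) ↔ (Coh.IsQCoh M ∧ Flatn.IsRelFP f M) := by
  constructor
  · intro h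
    have hM := isQCoh_of_rel_neg_one h
    refine ⟨hM, RelFP.isRelFP_of_forall fun U V hUV => ?_⟩
    obtain ⟨hU, n, φ, hφ, hP⟩ := (isPseudoCoherentRel_iff.1 h).2 U V U.2 V.2 hUV
    have hfp := (fp_secMod_iff M hU φ).1
      (DRingPC.finitePresentation_of_pc ((immPC_single_iff hM (-1) hU φ hφ.surjective).1 hP))
    letI := (f.appLE (V : Y.Opens) (U : X.Opens) hUV).hom.toAlgebra
    exact ⟨n, { φ.hom with commutes' := hφ.2.2 }, hφ.surjective, hfp⟩
  · rintro ⟨hM, h⟩
    refine isPseudoCoherentRel_iff.2 ⟨inferInstance, fun U V hU hV hUV => ?_⟩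
    obtain ⟨n, φ, hφ, hfp⟩ := RelFP.relFPOn_of_isRelFP (hF := hM) h ⟨U, hU⟩ ⟨V, hV⟩ hUV
    letI := (f.appLE V U hUV).hom.toAlgebra
    let ψ : CommRingCat.of (MvPolynomial (Fin n) Γ(Y, V)) ⟶ Γ(X, U) := CommRingCat.ofHom φ.toRingHom
    have hψ : IsPres f U V ψ := ⟨hUV, hφ, fun r => φ.commutes r⟩
    haveI : Module.FinitePresentation (MvPolynomial (Fin n) Γ(Y, V))
        ((ModuleCat.restrictScalars ψ.hom).obj (secMod M hU)) := (fp_secMod_iff M hU ψ).2 hfp
    exact ⟨hU, n, ψ, hψ, (immPC_single_iff hM (-1) hU ψ hψ.surjective).2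
      (DRingPC.pc_neg_one_of_finitePresentation _)⟩

end Groth.Agent.FlatMor3.RelPC
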