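import Groth.Agent.KRegLib.BaseChange
import Groth.Agent.KFlatLib.Ring.BaseChangePushout
import Groth.Agent.H9Misc.DRingRestrict
import Groth.Agent.H9Misc.DRingPCDescent
import Mathlib.RingTheory.RingHom.FaithfullyFlat

/-!
# Flat base change of pseudo-coherence along a presentation
-/

set_option linter.style.haveILetI false
set_option backward.isDefEq.respectTransparency false
set_option backward.isDefEq.respectTransparency.types false

universe u

open CategoryTheory CategoryTheory.Limits TensorProduct

attribute [local instance] HasDerivedCategory.standard MvPolynomial.algebraMvPolynomial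

namespace Groth.Agent.FlatMor3.RelPC

open Groth.Agent.H9Misc Groth.Agent.H9Misc.DRingRestrict Groth.Agent.KFlatLib

variable {R R' B B' : Type u} [CommRing R] [CommRing R'] [CommRing B] [CommRing B'] [Algebra R R']
  [Algebra R B] [Algebra R' B'] [Algebra B B'] [Algebra R B'] [IsScalarTower R R' B'] [IsScalarTower R B B']
  [Algebra.IsPushout R R' B B'] [Module.Flat R R']

/-- Pseudo-coherence over a polynomial presentation, after a flat base change of the base. -/
theorem exists_presentation_baseChange {n : ℕ} (f : MvPolynomial (Fin n) R →ₐ[R] B) (hf : Function.Surjective f) :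
    ∃ g : MvPolynomial (Fin n) R' →ₐ[R'] B', Function.Surjective g ∧
      ∀ (T : CochainComplex (ModuleCat.{u} B) ℤ) (m : ℤ),
        (DRing.IsPseudoCoherent (MvPolynomial (Fin n) R) m
            ((DRing.restrictD (f : MvPolynomial (Fin n) R →+* B)).obj (DerivedCategory.Q.obj T)) →
          DRing.IsPseudoCoherent (MvPolynomial (Fin n) R') m
            ((DRing.restrictD (g : MvPolynomial (Fin n) R' →+* B')).obj (DerivedCategory.Q.obj
              ((DRingLTensor.extC' (algebraMap B B')).obj T)))) ∧
        (Module.FaithfullyFlat R R' →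
          DRing.IsPseudoCoherent (MvPolynomial (Fin n) R') m
            ((DRing.restrictD (g : MvPolynomial (Fin n) R' →+* B')).obj (DerivedCategory.Q.obj
              ((DRingLTensor.extC' (algebraMap B B')).obj T))) →
          DRing.IsPseudoCoherent (MvPolynomial (Fin n) R) m
            ((DRing.restrictD (f : MvPolynomial (Fin n) R →+* B)).obj (DerivedCategory.Q.obj T))) := by
  obtain ⟨g, hg, hgf, -⟩ := KRegLib.exists_baseChange_presentation (L := R') (B' := B') f hf
  refine ⟨g, hg, fun T m => ?_⟩
  let P := MvPolynomial (Fin n) R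
  let P' := MvPolynomial (Fin n) R'
  letI := f.toRingHom.toAlgebra
  letI := g.toRingHom.toAlgebra
  letI : Algebra P B' := ((algebraMap B B').comp f.toRingHom).toAlgebra
  haveI : IsScalarTower R P B := .of_algebraMap_eq fun a => (f.commutes a).symm
  haveI : IsScalarTower R' P' B' := .of_algebraMap_eq fun a => (g.commutes a).symm
  haveI : IsScalarTower P B B' := .of_algebraMap_eq fun _ => rfl
  haveI : IsScalarTower P P' B' := .of_algebraMap_eq fun x => (hgf x).symm
  haveI : IsScalarTower R P B' := .of_algebraMap_eq fun a =>
    (IsScalarTower.algebraMap_apply R B B' a).trans (congrArg (algebraMap B B') (f.commutes a).symm)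
  haveI : IsScalarTower R P P' := .of_algebraMap_eq fun a => (MvPolynomial.map_C _ a).symm
  haveI : IsScalarTower R P' B' := IsScalarTower.of_algebraMap_eq fun a => by
    rw [IsScalarTower.algebraMap_apply R R' B', IsScalarTower.algebraMap_apply R R' P',
      ← IsScalarTower.algebraMap_apply R' P' B']
  haveI hP : Algebra.IsPushout P P' B B' :=
    ((Algebra.IsPushout.comp_iff (R := R) (S := P) (R' := R') (S' := P') (T := B) (T' := B')).1
      ‹Algebra.IsPushout R R' B B'›.symm).symm
  haveI : Algebra.IsPushout R R' P P' := Algebra.IsPushout.symm inferInstance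
  haveI : Module.Flat P P' := RingHom.flat_algebraMap_iff.1
    (RingHom.Flat.isStableUnderBaseChange R R' P P' (RingHom.flat_algebraMap_iff.2 inferInstance))
  have h : (algebraMap B B').comp (f : P →+* B) = (g : P' →+* B').comp (algebraMap P P') :=
    RingHom.ext fun x => (hgf x).symm
  haveI : ∀ i, IsIso ((sqCx h T).f i) := fun i =>
    isIso_sqMod (R := P) (A := B) (R' := P') (A' := B') h rfl rfl rfl rfl (T.X i)
  haveI : IsIso (sqCx h T) := HomologicalComplex.Hom.isIso_of_components _
  let F := ModuleCat.extendScalars.{u, u, u} (algebraMap P P')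
  haveI : PreservesFiniteLimits F :=
    ModuleCat.preservesFiniteLimits_extendScalars_of_flat (RingHom.flat_algebraMap_iff.2 inferInstance)
  haveI : PreservesFiniteColimits F := by
    haveI : F.IsLeftAdjoint := (ModuleCat.extendRestrictScalarsAdj (algebraMap P P')).isLeftAdjoint
    infer_instance
  let res : DRing.Cx B ⥤ DRing.Cx P := (ModuleCat.restrictScalars (f : P →+* B)).mapHomologicalComplex _
  let ext : DRing.Cx P ⥤ DRing.Cx P' := F.mapHomologicalComplex _
  let e₀ : DerivedCategory.Q.obj (res.obj T) ≅
      (DRing.restrictD (f : P →+* B)).obj (DerivedCategory.Q.obj T) :=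
    ((ModuleCat.restrictScalars (f : P →+* B)).mapDerivedCategoryFactors.app T).symm
  let e₁ : DerivedCategory.Q.obj (ext.obj (res.obj T)) ≅
      (DRing.restrictD (g : P' →+* B')).obj (DerivedCategory.Q.obj
        ((DRingLTensor.extC' (algebraMap B B')).obj T)) :=
    DerivedCategory.Q.mapIso (asIso (sqCx h T)) ≪≫
      ((ModuleCat.restrictScalars (g : P' →+* B')).mapDerivedCategoryFactors.app _).symm
  constructor
  · intro hT
    exact DRingPC.of_iso (F.mapDerivedCategoryFactors.app (res.obj T) ≪≫ e₁)
      (pc_map F (finFree_extendScalars _) (DRingPC.of_iso e₀.symm hT))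
  · intro hff hT
    haveI : Module.FaithfullyFlat P P' := RingHom.faithfullyFlat_algebraMap_iff.1
      (RingHom.FaithfullyFlat.isStableUnderBaseChange R R' P P'
        ((RingHom.faithfullyFlat_algebraMap_iff).2 hff))
    exact DRingPC.of_iso e₀ (DRingPCDescent.pc_descent (R' := P') (res.obj T) m (DRingPC.of_iso e₁.symm hT))

end Groth.Agent.FlatMor3.RelPC
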